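import Groth.Agent.Lib.CurveVanish
import Groth.Agent.CanonDual.BC
import Groth.Prelude.Def_Models

/-!
# Dualizing modules extend across finitely many closed points of the closed fibre
-/

set_option autoImplicit false
set_option linter.style.haveILetI false
set_option linter.unusedSectionVars false
set_option backward.isDefEq.respectTransparency false
set_option backward.isDefEq.respectTransparency.types false

universe u

open CategoryTheory CategoryTheory.Limits CategoryTheory.Abelian AlgebraicGeometry TopologicalSpace Opposite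

noncomputable section

namespace Groth.Agent.DualS2

open Groth.Agent

variable {X : Scheme.{u}} (U : X.Opens)

/-- The stalks of the module vanish on the open. -/
def ZeroOn (M : X.Modules) : Prop := ∀ x ∈ U, Subsingleton (M.presheaf.stalk x)

theorem zeroOn_kernel {A B : X.Modules} (f : A ⟶ B)
    (h : ∀ x ∈ U, IsIso ((DerSch.stalkFunctor X x).map f)) : ZeroOn U (kernel f) := fun x hx => by
  haveI := h x hx
  exact ModuleCat.subsingleton_of_isZero ((isZero_kernel_of_mono ((DerSch.stalkFunctor X x).map f)).of_iso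
    (PreservesKernel.iso (DerSch.stalkFunctor X x) f))

theorem zeroOn_cokernel {A B : X.Modules} (f : A ⟶ B)
    (h : ∀ x ∈ U, IsIso ((DerSch.stalkFunctor X x).map f)) : ZeroOn U (cokernel f) := fun x hx => by
  haveI := h x hx
  exact ModuleCat.subsingleton_of_isZero ((isZero_cokernel_of_epi ((DerSch.stalkFunctor X x).map f)).of_iso
    (PreservesCokernel.iso (DerSch.stalkFunctor X x) f))

theorem sec_eq_zero {M : X.Modules} (hM : ZeroOn U M) {W : X.Opens} (hW : W ≤ U) (s : Γ(M, W)) : s = 0 := by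
  refine QCoh.eq_zero_of_locally W s fun x hx => ?_
  haveI := hM x (hW hx)
  obtain ⟨V, hxV, i, j, h⟩ := M.presheaf.germ_eq x hx hx s 0 (Subsingleton.elim _ _)
  exact ⟨V, i, hxV, h.trans (map_zero _)⟩

/-- Morphisms from modules vanishing on the open to direct images from it vanish. -/
theorem hom_eq_zero {C : X.Modules} (hC : ZeroOn U C) {F : (U : Scheme.{u}).Modules}
    (φ : C ⟶ (Scheme.Modules.pushforward U.ι).obj F) : φ = 0 := by
  refine Scheme.Modules.hom_ext _ _ fun V => ?_
  ext s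
  have hle : V ⊓ U ≤ V := inf_le_left
  have h1 := congrArg (φ.app (V ⊓ U))
    (sec_eq_zero U hC inf_le_right (C.presheaf.map (homOfLE hle).op s))
  rw [map_zero, QCoh.map_app_comm φ (homOfLE hle) s] at h1
  show φ.app V s = 0
  have hpre : U.ι ⁻¹ᵁ (V ⊓ U) = U.ι ⁻¹ᵁ V := by
    ext ⟨y, hy⟩; exact ⟨fun h => h.1, fun h => ⟨h, hy⟩⟩
  refine (ConcreteCategory.bijective_of_isIso (F.presheaf.map (eqToHom hpre).op)).1 ?_
  rw [map_zero]
  exact (congrArg (fun m => F.presheaf.map m (φ.app V s)) (Subsingleton.elim _ _)).trans h1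

theorem bijective_res_push {F : (U : Scheme.{u}).Modules} (V : X.Opens) :
    Function.Bijective (((Scheme.Modules.pushforward U.ι).obj F).presheaf.map
      (homOfLE (inf_le_left : V ⊓ U ≤ V)).op) := by
  have hpre : U.ι ⁻¹ᵁ (V ⊓ U) = U.ι ⁻¹ᵁ V := by
    ext ⟨y, hy⟩; exact ⟨fun h => h.1, fun h => ⟨h, hy⟩⟩
  have h := ConcreteCategory.bijective_of_isIso (F.presheaf.map (eqToHom hpre).op)
  rw [Subsingleton.elim (eqToHom hpre).op ((Opens.map U.ι.base).map (homOfLE (inf_le_left : V ⊓ U ≤ V))).op] at h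
  exact h

theorem surjective_H_of_subsingleton {Y : TopCat.{u}} {T : ShortComplex (CohTop.Ab Y)} (hT : T.ShortExact)
    (n : ℕ) (h : Subsingleton (CohTop.H T.X₃ n)) : Function.Surjective (Sheaf.H.map T.f n) := fun x => by
  obtain ⟨y, hy⟩ := Ext.covariant_sequence_exact₂ _ hT x (h.elim _ _)
  exact ⟨y, hy⟩

theorem surjective_HHlin_of_coker {A : Type u} [CommRing A] [X.Over (Spec (CommRingCat.of A))]
    {M N : X.Modules} (f : M ⟶ N) [Mono f] (n : ℕ) (h : Subsingleton (Coh.HH X (cokernel f) n)) :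
    Function.Surjective (Canon.HHlin A f n) := fun x => by
  have hS : (ShortComplex.mk f (cokernel.π f) (cokernel.condition f)).ShortExact :=
    { exact := ShortComplex.exact_of_g_is_cokernel _ (cokernelIsCokernel _) }
  obtain ⟨y, hy⟩ := surjective_H_of_subsingleton (Y := X.toPresheafedSpace.carrier)
    (T := (ShortComplex.mk f (cokernel.π f) (cokernel.condition f)).map (QCoh.toAbFunctor X))
    (QCoh.toAb_shortExact hS) n h x
  exact ⟨y, hy⟩

variable {R : Type u} [CommRing R] [IsDomain R] [X.Over (Spec (CommRingCat.of R))]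

/-- A dualizing module extends across finitely many closed points at which a nonzero scalar vanishes. -/
theorem isIso_unitW [IsLocallyNoetherian X] [CompactSpace X] (ϖ : R) (hϖ : ϖ ≠ 0)
    (hfin : ((U : Set X)ᶜ).Finite) (hcl : ∀ x, x ∉ U → IsClosed ({x} : Set X))
    (hbo : X.basicOpen (Coh.toGlobal (X ↘ Spec (CommRingCat.of R)) ϖ : Γ(X, ⊤)) ≤ U)
    (ω : X.Modules) (tr : Coh.HH X ω 1 →ₗ[R] R) (hω : Canon.IsRDualOver R X 1 ω tr) :
    IsIso (KFlatLib.unitW U ω) := by
  let f := KFlatLib.unitW U ω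
  have hiso : ∀ x ∈ U, IsIso ((DerSch.stalkFunctor X x).map f) := fun x hx =>
    KFlatLib.isIso_stalk_unitW hx ω
  haveI : QuasiCompact U.ι := inferInstance
  have hqG : Coh.IsQCoh ((Scheme.Modules.pushforward U.ι).obj (ω.restrict U.ι)) :=
    QCoh.isQCoh_pushforward U.ι (QCoh.isQCoh_restrict U.ι hω.1)
  have hH1 : ∀ M : X.Modules, ZeroOn U M → Subsingleton (Coh.HH X M 1) := fun M h =>
    CurveVanish.subsingleton_HH_of_finite hfin hcl (fun x hx => h x (not_not.1 hx)) 0
  haveI : Mono f := by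
    refine Preadditive.mono_of_kernel_zero ((hω.2 _ (QCoh.isQCoh_kernel hω.1 hqG f)).1 ?_)
    ext y
    haveI := hH1 _ (zeroOn_kernel U f hiso)
    rw [Subsingleton.elim y 0, map_zero, map_zero]
  let Q := cokernel f
  let c : _ ⟶ Q := cokernel.π f
  have hQ : ZeroOn U Q := zeroOn_cokernel U f hiso
  have hqQ : Coh.IsQCoh Q := QCoh.isQCoh_cokernel hω.1 hqG f
  let a : R →+* Γ(X, ⊤) := Coh.toGlobal (X ↘ Spec (CommRingCat.of R))
  let mul (N : ℕ) (M : X.Modules) : M ⟶ M := LCZLib.smulHom (a (ϖ ^ N)) M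
  have hnat : ∀ (N : ℕ) {M M' : X.Modules} (φ : M ⟶ M'), φ ≫ mul N M' = mul N M ≫ φ := fun N _ _ φ =>
    (LCZLib.smulNat (a (ϖ ^ N))).naturality φ
  -- the torsion of the cokernel vanishes
  have htors : ∀ N : ℕ, Mono (mul N Q) := fun N => by
    let h : _ ⟶ Q := c ≫ mul N Q
    have hfh : f ≫ h = 0 := by rw [← Category.assoc, cokernel.condition, zero_comp]
    let GN := kernel h
    have hqN : Coh.IsQCoh GN := QCoh.isQCoh_kernel hqG hqQ h
    let f' : ω ⟶ GN := kernel.lift h f hfh
    have hf' : f' ≫ kernel.ι h = f := kernel.lift_ι _ _ _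
    haveI : Mono f' := mono_of_mono_fac hf'
    have hiso' : ∀ x ∈ U, IsIso ((DerSch.stalkFunctor X x).map f') := fun x hx => by
      haveI := hiso x hx
      haveI : IsIso ((DerSch.stalkFunctor X x).map f' ≫ (DerSch.stalkFunctor X x).map (kernel.ι h)) := by
        rw [← Functor.map_comp, hf']; infer_instance
      haveI : IsSplitEpi ((DerSch.stalkFunctor X x).map (kernel.ι h)) :=
        IsSplitEpi.mk' ⟨inv ((DerSch.stalkFunctor X x).map f' ≫ (DerSch.stalkFunctor X x).map (kernel.ι h)) ≫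
          (DerSch.stalkFunctor X x).map f', by rw [Category.assoc, IsIso.inv_hom_id]⟩
      haveI : IsIso ((DerSch.stalkFunctor X x).map (kernel.ι h)) := isIso_of_mono_of_isSplitEpi _
      exact IsIso.of_isIso_comp_right _ ((DerSch.stalkFunctor X x).map (kernel.ι h))
    have hc' : (kernel.ι h ≫ mul N _) ≫ c = 0 := by
      rw [Category.assoc, ← hnat, kernel.condition]
    let ψ : GN ⟶ ω := Abelian.monoLift f (kernel.ι h ≫ mul N _) hc'
    have hψ : f' ≫ ψ = mul N ω := by
      rw [← cancel_mono f, Category.assoc, Abelian.monoLift_comp, reassoc_of% hf', hnat]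
    let F : Coh.HH X ω 1 →ₗ[R] Coh.HH X GN 1 := Canon.HHlin R f' 1
    have hFs : Function.Surjective F :=
      surjective_HHlin_of_coker f' 1 (hH1 _ (zeroOn_cokernel U f' hiso'))
    have hker : LinearMap.ker F ≤ LinearMap.ker tr := fun x hx => by
      rw [LinearMap.mem_ker] at hx ⊢
      have h1 : ϖ ^ N • x = 0 := by
        refine (CanonDual.BC.smul_eq_HHlin ω 1 (ϖ ^ N) x).trans ?_
        show Canon.HHlin R (mul N ω) 1 x = 0
        rw [← hψ, ← PnDual.HHlin_comp, show Canon.HHlin R f' 1 x = 0 from hx, map_zero]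
      have h2 := congrArg tr h1
      rw [map_smul, map_zero, smul_eq_mul] at h2
      exact (mul_eq_zero.1 h2).resolve_left (pow_ne_zero N hϖ)
    let tr' : Coh.HH X GN 1 →ₗ[R] R :=
      (LinearMap.ker F).liftQ tr hker ∘ₗ (F.quotKerEquivOfSurjective hFs).symm.toLinearMap
    have htr' : ∀ x, tr' (F x) = tr x := fun x => by
      have : (F.quotKerEquivOfSurjective hFs).symm (F x) = Submodule.Quotient.mk x := by
        rw [LinearEquiv.symm_apply_eq]
        exact (F.quotKerEquivOfSurjective_apply_mk hFs x).symm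
      simp only [tr', LinearMap.comp_apply, LinearEquiv.coe_coe, this, Submodule.liftQ_apply]
    obtain ⟨φ, hφ⟩ := (hω.2 _ hqN).2 tr'
    have hid : f' ≫ φ = 𝟙 ω := (hω.2 _ hω.1).1 (LinearMap.ext fun x => by
      have h1 := LinearMap.congr_fun hφ (F x)
      rw [htr'] at h1
      show tr (Canon.HHlin R (f' ≫ φ) 1 x) = tr (Canon.HHlin R (𝟙 ω) 1 x)
      rw [← PnDual.HHlin_comp, PnDual.HHlin_id]
      exact h1)
    have hε : f' ≫ (𝟙 GN - φ ≫ f') = 0 := by
      rw [Preadditive.comp_sub, Category.comp_id, reassoc_of% hid, sub_self]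
    have hsplit : φ ≫ f' = 𝟙 GN := by
      have h0 : cokernel.desc f' _ hε ≫ kernel.ι h = 0 :=
        hom_eq_zero U (zeroOn_cokernel U f' hiso') _
      have h1 : cokernel.desc f' _ hε = 0 := by rw [← cancel_mono (kernel.ι h), h0, zero_comp]
      have h2 := cokernel.π_desc f' _ hε
      rw [h1, comp_zero] at h2
      exact (sub_eq_zero.1 h2.symm).symm
    refine Preadditive.mono_of_kernel_zero ?_
    let j := kernel.ι (mul N Q)
    haveI : Epi c := inferInstance
    rw [← cancel_epi (pullback.snd c j), comp_zero, ← pullback.condition]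
    have h3 : pullback.fst c j ≫ h = 0 := by
      rw [← Category.assoc, pullback.condition, Category.assoc, kernel.condition, comp_zero]
    rw [← kernel.lift_ι h _ h3, ← Category.comp_id (kernel.lift h _ h3), ← hsplit]
    simp only [Category.assoc, reassoc_of% hf', c, cokernel.condition, comp_zero]
  -- the cokernel vanishes
  have hQ0 : ∀ {W : X.Opens}, IsAffineOpen W → ∀ q : Γ(Q, W), q = 0 := fun {W} hW q => by
    let r : Γ(X, W) := AModX.resR (le_top : W ≤ ⊤) (a ϖ)
    have hle : X.basicOpen r ≤ U := fun y hy => hbo <| by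
      have : y ∈ W ⊓ X.basicOpen (a ϖ) := Scheme.basicOpen_res X (a ϖ) (homOfLE (le_top : W ≤ ⊤)).op ▸ hy
      exact this.2
    obtain ⟨n, hn⟩ := QCoh.exists_pow_smul_eq_zero hqQ hW r q (sec_eq_zero U hQ hle _)
    haveI := htors n
    refine QCoh.app_injective (mul n Q) W ?_
    show (mul n Q).app W q = (mul n Q).app W 0
    rw [map_zero]
    refine Eq.trans ?_ hn
    show (AModX.resR (le_top : W ≤ ⊤)) (a (ϖ ^ n)) • q = _
    exact congrArg (· • q) ((congrArg (AModX.resR (le_top : W ≤ ⊤)) (map_pow a ϖ n)).trans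
      (map_pow (AModX.resR (le_top : W ≤ ⊤)) (a ϖ) n))
  haveI : Epi f := by
    refine Preadditive.epi_of_cokernel_zero ?_
    refine Scheme.Modules.hom_ext _ _ fun V => ?_
    ext s
    show c.app V s = 0
    refine QCoh.eq_zero_of_locally V _ fun x hx => ?_
    obtain ⟨_, ⟨W, hW, rfl⟩, hxW, hWV⟩ := X.isBasis_affineOpens.exists_subset_of_mem_open hx V.2
    exact ⟨W, homOfLE hWV, hxW, hQ0 hW _⟩
  exact isIso_of_mono_of_epi f

/-- Restriction of sections of a dualizing module to the open is bijective. -/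
theorem bijective_res [IsLocallyNoetherian X] [CompactSpace X] (ϖ : R) (hϖ : ϖ ≠ 0)
    (hfin : ((U : Set X)ᶜ).Finite) (hcl : ∀ x, x ∉ U → IsClosed ({x} : Set X))
    (hbo : X.basicOpen (Coh.toGlobal (X ↘ Spec (CommRingCat.of R)) ϖ : Γ(X, ⊤)) ≤ U)
    (ω : X.Modules) (tr : Coh.HH X ω 1 →ₗ[R] R) (hω : Canon.IsRDualOver R X 1 ω tr) (V : X.Opens) :
    Function.Bijective (ω.presheaf.map (homOfLE (inf_le_left : V ⊓ U ≤ V)).op).hom := by
  haveI := isIso_unitW U ϖ hϖ hfin hcl hbo ω tr hω
  have hb : ∀ W : X.Opens, Function.Bijective ((KFlatLib.unitW U ω).app W) := fun W =>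
    ConcreteCategory.bijective_of_isIso _
  refine (Function.Bijective.of_comp_iff' (hb (V ⊓ U)) _).1 ?_
  have : (fun z => (KFlatLib.unitW U ω).app (V ⊓ U) (ω.presheaf.map (homOfLE (inf_le_left : V ⊓ U ≤ V)).op z)) =
      fun z => ((Scheme.Modules.pushforward U.ι).obj (ω.restrict U.ι)).presheaf.map
        (homOfLE (inf_le_left : V ⊓ U ≤ V)).op ((KFlatLib.unitW U ω).app V z) :=
    funext fun z => QCoh.map_app_comm _ _ z
  have h2 : Function.Bijective (fun z => ((Scheme.Modules.pushforward U.ι).obj (ω.restrict U.ι)).presheaf.map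
      (homOfLE (inf_le_left : V ⊓ U ≤ V)).op ((KFlatLib.unitW U ω).app V z)) :=
    (bijective_res_push U V).comp (hb V)
  rw [← this] at h2
  exact h2

end Groth.Agent.DualS2
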